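import Groth.Prelude.Def_Versch
import Groth.Prelude.Def_SGA3b
import Groth.Agent.OTLib.Frame
import Mathlib.Algebra.CharP.Lemmas
import Mathlib.RingTheory.Bialgebra.Convolution

/-!
# The Verschiebung in a dual frame

For a frame `b = Σ φ_i(b) a_i` one has `v b = Σ a_i ⊗ φ_i^p(b)` and `[p^n] b = Σ φ_i^{p^n}(b) a_i^{p^n}`.
-/

noncomputable section

set_option autoImplicit false
set_option maxSynthPendingDepth 3

namespace Groth.Agent.Versch19

open TensorProduct WithConv

universe u v

variable (p : ℕ) [Fact p.Prime] (R : Type u) [CommRing R] [CharP R p]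
  (A : Type v) [CommRing A] [HopfAlgebra R A]

omit [Fact p.Prime] [CharP R p] in
theorem smulRight_pow (φ : CartDual.D R A) (a : A) (m : ℕ) :
    (toConv (φ.ofConv.smulRight a) : WithConv (A →ₗ[R] A)) ^ m =
      toConv ((φ ^ m).ofConv.smulRight (a ^ m)) := by
  have hmul : ∀ (x y : CartDual.D R A) (c d : A),
      (toConv (x.ofConv.smulRight c) : WithConv (A →ₗ[R] A)) * toConv (y.ofConv.smulRight d) =
        toConv ((x * y).ofConv.smulRight (c * d)) := by
    intro x y c d
    refine WithConv.ext (LinearMap.ext fun b => ?_)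
    simp only [LinearMap.convMul_apply, WithConv.ofConv_toConv, LinearMap.smulRight_apply]
    generalize Coalgebra.comul (R := R) b = z
    induction z using TensorProduct.induction_on with
    | zero => simp
    | add s t hs ht => simp only [map_add, hs, ht, add_smul]
    | tmul s t => simp [smul_smul, mul_comm]
  induction m with
  | zero =>
    refine WithConv.ext (LinearMap.ext fun b => ?_)
    simp [Algebra.algebraMap_eq_smul_one]
  | succ m ih => rw [pow_succ, pow_succ, pow_succ, ih, hmul]

variable [Coalgebra.IsCocomm R A]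

/-- `[p^n]` in a frame. -/
theorem powConv_eq {m : ℕ} (a : Fin m → A) (φ : Fin m → A →ₗ[R] R) (h : ∀ b, ∑ i, φ i b • a i = b)
    (n : ℕ) (b : A) :
    ((toConv (AlgHom.id R A)) ^ p ^ n).ofConv b = ∑ i, ((toConv (φ i) : CartDual.D R A) ^ p ^ n) b • a i ^ p ^ n := by
  haveI : CharP (WithConv (A →ₗ[R] A)) p :=
    charP_of_injective_algebraMap (R := R) (fun r s hrs => by
      have h1 := congrArg (fun f : WithConv (A →ₗ[R] A) => Coalgebra.counit (R := R) (f (1 : A))) hrs
      simpa [LinearMap.convAlgebraMap_apply] using h1) p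
  have hid : (toConv (LinearMap.id : A →ₗ[R] A)) = ∑ i, toConv ((φ i).smulRight (a i)) := by
    refine WithConv.ext (LinearMap.ext fun b => ?_)
    simp [WithConv.ofConv_sum, h]
  have hlin : toConv ((toConv (AlgHom.id R A)) ^ p ^ n).ofConv.toLinearMap =
      (toConv (LinearMap.id : A →ₗ[R] A)) ^ p ^ n := by
    rw [AlgHom.toLinearMap_convPow]
    rfl
  have h1 := congrArg (fun f : WithConv (A →ₗ[R] A) => f b) hlin
  simp only [WithConv.ofConv_toConv, AlgHom.toLinearMap_apply] at h1
  rw [h1, hid, sum_pow_char_pow p n]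
  simp only [WithConv.ofConv_sum, LinearMap.sum_apply]
  refine Finset.sum_congr rfl fun i _ => ?_
  have h2 := smulRight_pow R A (toConv (φ i)) (a i) (p ^ n)
  simp only [WithConv.ofConv_toConv] at h2
  rw [h2]
  simp [CartDual.coe_apply]

variable [Module.Finite R A] [Module.Projective R A]

omit [Module.Finite R A] [Module.Projective R A] in
theorem dual_pow_eq {m : ℕ} (a : Fin m → A) (φ : Fin m → A →ₗ[R] R) (h : ∀ b, ∑ i, φ i b • a i = b)
    (x : CartDual.D R A) : x ^ p = ∑ i, (x (a i)) ^ p • (toConv (φ i) : CartDual.D R A) ^ p := by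
  have hx : x = ∑ i, x (a i) • (toConv (φ i) : CartDual.D R A) := by
    refine WithConv.ext (LinearMap.ext fun b => ?_)
    simp only [WithConv.ofConv_sum, LinearMap.sum_apply, WithConv.ofConv_smul, LinearMap.smul_apply,
      WithConv.ofConv_toConv, smul_eq_mul, CartDual.coe_apply]
    conv_lhs => rw [← h b, map_sum]
    exact Finset.sum_congr rfl fun i _ => by rw [map_smul, smul_eq_mul, mul_comm]
  conv_lhs => rw [hx, sum_pow_char p]
  exact Finset.sum_congr rfl fun i _ => _root_.smul_pow _ _ _

/-- The Verschiebung in a frame. -/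
theorem verschiebung_eq {v : A →+* FrobAlg.BaseChange p R A} (hv : Versch.IsVerschiebung p R A v)
    {m : ℕ} (a : Fin m → A) (φ : Fin m → A →ₗ[R] R) (h : ∀ b, ∑ i, φ i b • a i = b) (b : A) :
    v b = ∑ i, a i ⊗ₜ[R] FrobAlg.toTwist p R (((toConv (φ i) : CartDual.D R A) ^ p) b) := by
  refine Versch.evTw_injective p R A fun x => ?_
  rw [(Versch.isVerschiebung_iff p R A v).1 hv b x, map_sum, dual_pow_eq p R A a φ h x]
  simp only [CartDual.coe_apply, WithConv.ofConv_sum, LinearMap.sum_apply, map_sum, WithConv.ofConv_smul,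
    LinearMap.smul_apply, smul_eq_mul, map_mul, Versch.evTw_tmul']

omit [Coalgebra.IsCocomm R A] [Module.Finite R A] [Module.Projective R A] in
theorem relFrob_tmul [CharP A p] (b : A) (r : R) :
    FrobAlg.relFrob p R A (b ⊗ₜ[R] FrobAlg.toTwist p R r) = b ^ p * algebraMap R A r := by
  simp [FrobAlg.relFrob, FrobAlg.frobHom, FrobAlg.inclHom, frobenius_def]

/-- `V ∘ F = [p]`. -/
theorem relFrob_verschiebung [CharP A p] {v : A →+* FrobAlg.BaseChange p R A}
    (hv : Versch.IsVerschiebung p R A v) (b : A) :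
    FrobAlg.relFrob p R A (v b) = ((toConv (AlgHom.id R A)) ^ p).ofConv b := by
  obtain ⟨m, a, φ, h⟩ := OTLib.exists_dualFrame R A
  have hp := powConv_eq p R A a φ h 1 b
  rw [pow_one] at hp
  rw [hp, verschiebung_eq p R A hv a φ h b, map_sum]
  refine Finset.sum_congr rfl fun i _ => ?_
  rw [relFrob_tmul, Algebra.smul_def, mul_comm]

theorem verschiebung_algebraMap {v : A →+* FrobAlg.BaseChange p R A}
    (hv : Versch.IsVerschiebung p R A v) (r : R) :
    v (algebraMap R A r) = (1 : A) ⊗ₜ[R] FrobAlg.toTwist p R r := by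
  obtain ⟨m, a, φ, h⟩ := OTLib.exists_dualFrame R A
  rw [verschiebung_eq p R A hv a φ h]
  have h1 : ∀ i, ((toConv (φ i) : CartDual.D R A) ^ p) (algebraMap R A r) = r * (φ i 1) ^ p := by
    intro i
    have hpow := Bialgebra.counit_pow (R := R) (toConv (φ i) : CartDual.D R A) p
    simp only [CartDual.coalgebra_counit_apply, WithConv.ofConv_toConv, CartDual.coe_apply] at hpow
    rw [Algebra.algebraMap_eq_smul_one, CartDual.coe_apply, map_smul, smul_eq_mul, hpow]
  have h2 : ∀ i, a i ⊗ₜ[R] FrobAlg.toTwist p R (r * (φ i 1) ^ p) =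
      (φ i 1 • a i) ⊗ₜ[R] FrobAlg.toTwist p R r := by
    intro i
    rw [TensorProduct.smul_tmul, Algebra.smul_def,
      show algebraMap R (FrobAlg.Twist p R) (φ i 1) = FrobAlg.toTwist p R ((φ i 1) ^ p) from rfl,
      ← map_mul, mul_comm]
  simp only [h1, h2, ← TensorProduct.sum_tmul, h]

end Groth.Agent.Versch19
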