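import Groth.Agent.Versch19.Basic
import Groth.Agent.FinHopf.DualPoints
import Groth.Agent.RelFrob17.Basic
import Mathlib.Algebra.Algebra.Shrink

/-!
# Multiplicative = Verschiebung bijective, over a field
-/

noncomputable section

set_option autoImplicit false
set_option maxSynthPendingDepth 3

namespace Groth.Agent.Versch19

open TensorProduct WithConv

universe u v

variable (p : ℕ) [Fact p.Prime] {k : Type u} [Field k] [CharP k p]

theorem relFrob_tmul' (B : Type v) [CommRing B] [Algebra k B] [CharP B p] (b : B) (r : k) :
    FrobAlg.relFrob p k B (b ⊗ₜ[k] FrobAlg.toTwist p k r) = b ^ p * algebraMap k B r := by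
  simp [FrobAlg.relFrob, FrobAlg.frobHom, FrobAlg.inclHom, frobenius_def]

/-- relative Frobenius criterion, any universe -/
theorem etale_iff_of_finite (B : Type v) [CommRing B] [Algebra k B] [CharP B p] [Module.Finite k B] :
    Algebra.Etale k B ↔ Function.Bijective (FrobAlg.relFrob p k B) := by
  haveI : Small.{u} B := small_map (Module.finBasis k B).equivFun.toEquiv
  haveI : Nontrivial B := CharP.nontrivial_of_char_ne_one (R := B) (Fact.out : p.Prime).ne_one
  let e : Shrink.{u} B ≃ₐ[k] B := Shrink.algEquiv k B
  haveI : Nontrivial (Shrink.{u} B) := e.toEquiv.nontrivial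
  haveI : CharP (Shrink.{u} B) p := charP_of_injective_algebraMap (algebraMap k (Shrink.{u} B)).injective p
  haveI : Module.Finite k (Shrink.{u} B) := Module.Finite.equiv e.symm.toLinearEquiv
  haveI : Algebra.FinitePresentation k (Shrink.{u} B) := Algebra.FinitePresentation.of_finiteType.1 inferInstance
  let E : FrobAlg.BaseChange p k (Shrink.{u} B) ≃ₐ[k] FrobAlg.BaseChange p k B :=
    Algebra.TensorProduct.congr e AlgEquiv.refl
  have hcomm : ∀ z, e (FrobAlg.relFrob p k (Shrink.{u} B) z) = FrobAlg.relFrob p k B (E z) := by
    intro z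
    induction z using TensorProduct.induction_on with
    | zero => simp
    | add s t hs ht => simp only [map_add, hs, ht]
    | tmul b s =>
      obtain ⟨r, rfl⟩ := (FrobAlg.toTwist p k).surjective s
      have hE : E (b ⊗ₜ[k] FrobAlg.toTwist p k r) = e b ⊗ₜ[k] FrobAlg.toTwist p k r := by simp [E]
      rw [hE, relFrob_tmul', relFrob_tmul', map_mul, map_pow, AlgEquiv.commutes]
  have hbij : Function.Bijective (FrobAlg.relFrob p k (Shrink.{u} B)) ↔
      Function.Bijective (FrobAlg.relFrob p k B) := by
    have h : ⇑(FrobAlg.relFrob p k B) = e ∘ FrobAlg.relFrob p k (Shrink.{u} B) ∘ E.symm := by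
      funext z
      simp [hcomm]
    rw [h]
    constructor
    · exact fun h => e.bijective.comp (h.comp E.symm.bijective)
    · intro h'
      have h2 := (Function.Bijective.of_comp_iff' e.bijective _).1 h'
      exact (Function.Bijective.of_comp_iff _ E.symm.bijective).1 h2
  rw [← hbij, ← RelFrob17.etale_iff p k (Shrink.{u} B)]
  exact ⟨fun _ => Algebra.Etale.of_equiv e.symm, fun _ => Algebra.Etale.of_equiv e⟩

/-- coordinates on the twist from a basis -/
theorem bijective_twistCoord (B : Type v) [CommRing B] [Algebra k B] {ι : Type} [Fintype ι]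
    (b : Module.Basis ι k B) :
    Function.Bijective (fun c : ι → k => (∑ i, b i ⊗ₜ[k] FrobAlg.toTwist p k (c i) : FrobAlg.BaseChange p k B)) := by
  classical
  constructor
  · intro c c' h
    funext j
    have h1 := congrArg (TensorProduct.lift (LinearMap.mul k (FrobAlg.Twist p k) ∘ₗ
      Algebra.linearMap k (FrobAlg.Twist p k) ∘ₗ b.coord j)) h
    simp only [map_sum, TensorProduct.lift.tmul, LinearMap.comp_apply, LinearMap.mul_apply',
      Algebra.linearMap_apply, Module.Basis.coord_apply, Module.Basis.repr_self] at h1
    rw [Finset.sum_eq_single j (fun i _ hi => by simp [Ne.symm hi]) (by simp),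
      Finset.sum_eq_single j (fun i _ hi => by simp [Ne.symm hi]) (by simp)] at h1
    simp only [Finsupp.single_eq_same, map_one, one_mul] at h1
    exact (FrobAlg.toTwist p k).injective h1
  · intro z
    induction z using TensorProduct.induction_on with
    | zero => exact ⟨0, by simp⟩
    | add s t hs ht =>
      obtain ⟨c, rfl⟩ := hs
      obtain ⟨c', rfl⟩ := ht
      exact ⟨c + c', by simp [tmul_add, Finset.sum_add_distrib]⟩
    | tmul a s =>
      obtain ⟨r, rfl⟩ := (FrobAlg.toTwist p k).surjective s
      refine ⟨fun i => (b.repr a i) ^ p * r, ?_⟩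
      conv_rhs => rw [← b.sum_repr a, TensorProduct.sum_tmul]
      refine Finset.sum_congr rfl fun i _ => ?_
      rw [TensorProduct.smul_tmul, Algebra.smul_def,
        show algebraMap k (FrobAlg.Twist p k) (b.repr a i) = FrobAlg.toTwist p k ((b.repr a i) ^ p) from rfl,
        ← map_mul]

variable {A : Type v} [CommRing A] [HopfAlgebra k A] [Coalgebra.IsCocomm k A] [FiniteDimensional k A]

theorem etale_dual_iff {v : A →+* FrobAlg.BaseChange p k A} (hv : Versch.IsVerschiebung p k A v) :
    Algebra.Etale k (CartDual.D k A) ↔ Function.Bijective v := by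
  classical
  let b := Module.finBasis k A
  let φ : Fin (Module.finrank k A) → A →ₗ[k] k := b.coord
  have hfr : ∀ a, ∑ i, φ i a • b i = a := fun a => b.sum_repr a
  let f : Fin (Module.finrank k A) → CartDual.D k A := fun i => toConv (φ i)
  have hli : LinearIndependent k f := by
    rw [Fintype.linearIndependent_iff]
    intro c hc j
    have h := congrArg (fun x : CartDual.D k A => x.ofConv (b j)) hc
    simp only [WithConv.ofConv_sum, LinearMap.sum_apply, WithConv.ofConv_smul, LinearMap.smul_apply, f,
      WithConv.ofConv_toConv, φ, Module.Basis.coord_apply, Module.Basis.repr_self] at h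
    rw [Finset.sum_eq_single j (fun i _ hi => by simp [Ne.symm hi]) (by simp)] at h
    simpa using h
  have hspan : ⊤ ≤ Submodule.span k (Set.range f) := by
    intro x _
    have hx : x = ∑ i, x (b i) • f i := by
      refine WithConv.ext (LinearMap.ext fun a => ?_)
      simp only [WithConv.ofConv_sum, LinearMap.sum_apply, WithConv.ofConv_smul, LinearMap.smul_apply, f,
        WithConv.ofConv_toConv, smul_eq_mul, CartDual.coe_apply]
      conv_lhs => rw [← hfr a, map_sum]
      exact Finset.sum_congr rfl fun i _ => by rw [map_smul, smul_eq_mul, mul_comm]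
    rw [hx]
    exact Submodule.sum_mem _ fun i _ => Submodule.smul_mem _ _ (Submodule.subset_span ⟨i, rfl⟩)
  let bD : Module.Basis (Fin (Module.finrank k A)) k (CartDual.D k A) := Module.Basis.mk hli hspan
  let M : A →ₗ[k] (Fin (Module.finrank k A) → k) := LinearMap.pi fun i => (f i ^ p).ofConv
  let N : (Fin (Module.finrank k A) → k) →ₗ[k] CartDual.D k A := Fintype.linearCombination k fun i => f i ^ p
  have hvM : ⇑v = (fun c : Fin (Module.finrank k A) → k =>
      (∑ i, b i ⊗ₜ[k] FrobAlg.toTwist p k (c i) : FrobAlg.BaseChange p k A)) ∘ M := by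
    funext a
    exact verschiebung_eq p k A hv b φ hfr a
  have hN : ⇑N = ⇑(FrobAlg.relFrob p k (CartDual.D k A)) ∘ (fun c : Fin (Module.finrank k A) → k =>
      (∑ i, bD i ⊗ₜ[k] FrobAlg.toTwist p k (c i) : FrobAlg.BaseChange p k (CartDual.D k A))) := by
    funext c
    simp only [N, Fintype.linearCombination_apply, Function.comp_apply, map_sum, relFrob_tmul', bD,
      Module.Basis.coe_mk, Algebra.smul_def, mul_comm]
  rw [etale_iff_of_finite p (CartDual.D k A), ← Function.Bijective.of_comp_iff _ (bijective_twistCoord p _ bD),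
    ← hN, hvM, Function.Bijective.of_comp_iff' (bijective_twistCoord p _ b) M]
  have hdimA : Module.finrank k A = Module.finrank k (Fin (Module.finrank k A) → k) := by simp
  have hdimD : Module.finrank k (Fin (Module.finrank k A) → k) = Module.finrank k (CartDual.D k A) := by
    rw [Module.finrank_eq_card_basis bD]; simp
  have hM : Function.Bijective M ↔ Function.Injective M :=
    ⟨fun h => h.1, fun h => ⟨h, (LinearMap.injective_iff_surjective_of_finrank_eq_finrank hdimA).1 h⟩⟩
  have hN' : Function.Bijective N ↔ Function.Surjective N :=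
    ⟨fun h => h.2, fun h => ⟨(LinearMap.injective_iff_surjective_of_finrank_eq_finrank hdimD).2 h, h⟩⟩
  rw [hM, hN']
  constructor
  · intro hs
    rw [injective_iff_map_eq_zero]
    intro a ha
    refine FinHopf.DualPoints.dual_ext (B := k) fun θ => ?_
    obtain ⟨c, hc⟩ := hs (toConv θ)
    have h := congrArg (fun x : CartDual.D k A => x.ofConv a) hc
    simp only [N, Fintype.linearCombination_apply, WithConv.ofConv_sum, LinearMap.sum_apply,
      WithConv.ofConv_smul, LinearMap.smul_apply, WithConv.ofConv_toConv] at h
    rw [map_zero, ← h]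
    refine Finset.sum_eq_zero fun i _ => ?_
    have hi : (f i ^ p).ofConv a = 0 := congrFun ha i
    rw [hi, smul_zero]
  · intro hi
    by_contra hns
    obtain ⟨x, hx⟩ := not_forall.1 hns
    obtain ⟨θ, hθx, hθ⟩ := Submodule.exists_dual_map_eq_bot_of_notMem
      (p := LinearMap.range N) (x := x) (by simpa using hx) inferInstance
    obtain ⟨a, ha⟩ := FinHopf.DualPoints.exists_eval (B := k) (E := A) θ
    have h0 : M a = 0 := funext fun i => by
      have hmem : θ (f i ^ p) ∈ (LinearMap.range N).map θ := ⟨_, ⟨Pi.single i 1, by simp [N]⟩, rfl⟩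
      rw [hθ, Submodule.mem_bot, ha] at hmem
      exact hmem
    have ha0 : a = 0 := hi (h0.trans (map_zero M).symm)
    rw [ha, ha0] at hθx
    exact hθx (map_zero _)

end Groth.Agent.Versch19
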